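import Groth.Agent.Sec62.Point
import Groth.Agent.LimTop61.Descent
import Groth.Agent.Approx60.FiniteLimit
import Groth.Agent.LimDesc62.Basic

/-!
A universally open surjective morphism locally of finite presentation over a quasi-compact quasi-separated base
has sections Zariski locally after a finite surjective base change (EGA IV 14.5.10).
-/

set_option autoImplicit false
set_option backward.isDefEq.respectTransparency false
set_option backward.defeqAttrib.useBackward true

universe u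

open CategoryTheory CategoryTheory.Limits AlgebraicGeometry TopologicalSpace

namespace Groth.Agent.Sec62

open LimTop61

/-- Sections near every point of a finite surjective cover. -/
theorem exists_finite_sections {U S : Scheme.{u}} (g : U ⟶ S) [UniversallyOpen g]
    [LocallyOfFinitePresentation g] [Surjective g] [CompactSpace S] [QuasiSeparatedSpace S] :
    ∃ (S' : Scheme.{u}) (π : S' ⟶ S), Surjective π ∧ IsFinite π ∧ LocallyOfFinitePresentation π ∧
      ∀ y : ↑S', ∃ (V : S'.Opens) (h : ↑V ⟶ U), y ∈ V ∧ h ≫ g = V.ι ≫ π := by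
  classical
  obtain ⟨T, p, hps, hpi, hloc⟩ : ∃ (T : Scheme.{u}) (p : T ⟶ S), Surjective p ∧ IsIntegralHom p ∧
      ∀ t : ↑T, ∃ (V : T.Opens) (r : (V : Scheme.{u}) ⟶ U), t ∈ V ∧ r ≫ g = (V.ι ≫ p : (V : Scheme.{u}) ⟶ S) :=
    ⟨AbsClosure.T S, AbsClosure.π S, inferInstance, inferInstance, exists_section_absClosure g⟩
  obtain ⟨α, _, _, _, D, τ, ⟨hl⟩, hD⟩ := Approx60.exists_integral_limit p
  let E := D ⋙ Over.forget S
  let c : Cone E := (Over.forget S).mapCone (Cone.mk (Over.mk p) τ)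
  have hc : IsLimit c := isLimitOfPreserves (Over.forget S) hl
  have : ∀ i, IsFinite (D.obj i).hom := fun i => (hD i).1
  have : ∀ (i j : αᵒᵖ) (a : i ⟶ j), IsAffineHom (E.map a) := fun i j a => by
    have : IsAffineHom ((D.map a).left ≫ (D.obj j).hom) := by rw [Over.w]; infer_instance
    exact IsAffineHom.of_comp (D.map a).left (D.obj j).hom
  have : ∀ i, CompactSpace (E.obj i) := fun i => by
    let d : (D.obj i).left ⟶ S := (D.obj i).hom
    have : IsFinite d := (hD i).1
    exact QuasiCompact.compactSpace_of_compactSpace d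
  have : ∀ i, QuasiSeparatedSpace (E.obj i) := fun i => by
    let d : (D.obj i).left ⟶ S := (D.obj i).hom
    have : IsFinite d := (hD i).1
    exact quasiSeparatedSpace_of_quasiSeparated d
  have hw : ∀ i, c.π.app i ≫ (D.obj i).hom = p := fun i => Over.w (τ.app i)
  -- a finite cover of the limit by affine opens mapping to `U`
  have key : ∀ t : T, ∃ (W : T.Opens) (h : ↑W ⟶ U), t ∈ W ∧ IsCompact (W : Set T) ∧ h ≫ g = W.ι ≫ p := by
    intro t
    obtain ⟨V, r, htV, hr⟩ := hloc t
    obtain ⟨_, ⟨W, hW, rfl⟩, htW, hWV⟩ :=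
      T.isBasis_affineOpens.exists_subset_of_mem_open htV V.2
    exact ⟨W, T.homOfLE hWV ≫ r, htW, hW.isCompact, by rw [Category.assoc, hr, Scheme.homOfLE_ι_assoc]⟩
  choose W h htW hWc hh using key
  have hTc : CompactSpace T := QuasiCompact.compactSpace_of_compactSpace p
  obtain ⟨s, hs⟩ := isCompact_univ.elim_finite_subcover (fun t : T => (W t : Set T))
    (fun t => (W t).2) (fun t _ => Set.mem_iUnion.2 ⟨t, htW t⟩)
  obtain ⟨i₀⟩ := IsCofiltered.nonempty (C := αᵒᵖ)
  have key2 : ∀ t : s, ∃ (i : αᵒᵖ) (_ : i ⟶ i₀) (V : (E.obj i).Opens) (k : ↑V ⟶ U),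
      IsCompact (V : Set (E.obj i)) ∧ c.π.app i ⁻¹ᵁ V = W t ∧ k ≫ g = V.ι ≫ (D.obj i).hom := by
    intro t
    obtain ⟨i, φ, V, hVc, hV⟩ := exists_preimage_eq_over E c hc i₀ (W t.1) (hWc t.1)
    let E' := opensDiagram E i V
    let c' := opensCone E c i V
    have hc' : IsLimit c' := isLimitOpensCone E c hc i V
    have : ∀ l : Over i, CompactSpace (E'.obj l) := fun l =>
      isCompact_iff_compactSpace.mp (QuasiCompact.isCompact_preimage (f := E.map l.hom) _ V.2 hVc)
    have : ∀ l : Over i, QuasiSeparatedSpace (E'.obj l) := fun l => by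
      exact (isQuasiSeparated_iff_quasiSeparatedSpace _ (E.map l.hom ⁻¹ᵁ V).2).1 (.of_quasiSeparatedSpace _)
    let tt : E' ⟶ (Functor.const (Over i)).obj S :=
      { app := fun l => (E.map l.hom ⁻¹ᵁ V).ι ≫ (D.obj l.left).hom
        naturality := fun l m a => by
          simp only [Functor.const_obj_map]
          erw [Category.comp_id]
          simp [E', opensDiagram, E, Scheme.Hom.resLE_comp_ι_assoc, Over.w] }
    let a : c'.pt ⟶ U := T.homOfLE hV.le ≫ h t.1
    obtain ⟨l, k, -, hk⟩ := Scheme.exists_π_app_comp_eq_of_locallyOfFinitePresentation E' tt g c' hc' a (by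
      ext l
      simp only [NatTrans.comp_app, Functor.const_map_app, a, Category.assoc, hh]
      simp [tt, c', opensCone, Scheme.Hom.resLE_comp_ι_assoc, hw])
    exact ⟨l.left, l.hom ≫ φ, E.map l.hom ⁻¹ᵁ V, k,
      isCompact_preimage_map E l.hom hVc,
      by rw [← Scheme.Hom.comp_preimage, c.w]; exact hV, hk⟩
  choose i φ V k hVc hV hk using key2
  obtain ⟨m, ψ, χ, hχ⟩ := LimDesc62.DescProp.exists_common φ
  let Vm : s → (E.obj m).Opens := fun t => E.map (χ t) ⁻¹ᵁ V t
  have hVm : ∀ t, c.π.app m ⁻¹ᵁ Vm t = W t := fun t => by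
    rw [← Scheme.Hom.comp_preimage, c.w, hV]
  obtain ⟨n, a, hn⟩ := exists_map_preimage_le_map_preimage E c hc (i := m) (U := ⊤) (V := ⨆ t, Vm t)
    isCompact_univ (by
      intro x _
      obtain ⟨t, ht, hxt⟩ := Set.mem_iUnion₂.mp (hs (Set.mem_univ x))
      exact Opens.mem_iSup.mpr ⟨⟨t, ht⟩, show x ∈ c.π.app m ⁻¹ᵁ Vm ⟨t, ht⟩ from (hVm _).symm ▸ hxt⟩)
  refine ⟨E.obj n, (D.obj n).hom, ?_, (hD n).1, (hD n).2, fun y => ?_⟩
  · have : Surjective (c.π.app n ≫ (D.obj n).hom) := by rw [hw]; exact hps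
    exact Surjective.of_comp (c.π.app n) _
  · obtain ⟨t, ht⟩ := Opens.mem_iSup.mp (hn (show y ∈ E.map a ⁻¹ᵁ ⊤ from trivial))
    refine ⟨E.map a ⁻¹ᵁ Vm t, (E.map a ≫ E.map (χ t)).resLE (V t) _ le_rfl ≫ k t, ht, ?_⟩
    have hw' : (E.map a ≫ E.map (χ t)) ≫ (D.obj (i t)).hom = (D.obj n).hom := by
      rw [← E.map_comp]; exact Over.w (D.map (a ≫ χ t))
    rw [Category.assoc, hk, Scheme.Hom.resLE_comp_ι_assoc, hw']

end Groth.Agent.Sec62
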