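import Groth.Agent.LimTop61.IntegralRefine
import Groth.Agent.CAlg6.QuasiSec
import Groth.Agent.E4O.FibreComp

/-! Universally open surjective morphisms have sections near every point of the absolute integral closure. -/

set_option autoImplicit false
set_option linter.style.haveILetI false
set_option backward.isDefEq.respectTransparency false
set_option backward.defeqAttrib.useBackward true

universe u

open CategoryTheory CategoryTheory.Limits AlgebraicGeometry TensorProduct

noncomputable section

namespace Groth.Agent.Sec62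

open LimTop61

/-- A finite injective algebra over a local domain with roots has a retraction. -/
theorem exists_algHom_of_finite {D B : Type u} [CommRing D] [IsLocalRing D] [IsDomain D] (h : HasRoots D)
    [CommRing B] [Algebra D B] [Module.Finite D B]
    (hs : Function.Surjective (PrimeSpectrum.comap (algebraMap D B))) : Nonempty (B →ₐ[D] D) := by
  obtain ⟨⟨P, hP⟩, hP0⟩ := hs ⟨⊥, Ideal.isPrime_bot⟩
  have hP0 : P.comap (algebraMap D B) = ⊥ := congrArg PrimeSpectrum.asIdeal hP0
  have hinj : Function.Injective (algebraMap D (B ⧸ P)) := by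
    rw [injective_iff_map_eq_zero]
    intro d hd
    have : d ∈ P.comap (algebraMap D B) :=
      (Ideal.Quotient.eq_zero_iff_mem (I := P) (a := algebraMap D B d)).1 hd
    rwa [hP0] at this
  have hsurj : Function.Surjective (Algebra.ofId D (B ⧸ P)) := fun y =>
    h.mem_range_of_isIntegral (Algebra.IsIntegral.isIntegral (R := D) y)
  let iso : D ≃ₐ[D] B ⧸ P := AlgEquiv.ofBijective (Algebra.ofId D (B ⧸ P)) ⟨hinj, hsurj⟩
  exact ⟨iso.symm.toAlgHom.comp (Ideal.Quotient.mkₐ D P)⟩

/-- A finite surjective morphism to the spectrum of a ring with roots has sections near points with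
domain local rings. -/
theorem exists_section_of_finite_surjective {L : Type u} [CommRing L] (hL : HasRoots L) {P : Scheme.{u}}
    (π : P ⟶ Spec (CommRingCat.of L)) [IsFinite π] [Surjective π] [LocallyOfFinitePresentation π]
    (q : Ideal L) [q.IsPrime] [IsDomain (Localization.AtPrime q)] :
    ∃ c ∉ q, ∃ σ : Spec (CommRingCat.of (Localization.Away c)) ⟶ P,
      σ ≫ π = Spec.map (CommRingCat.ofHom (algebraMap L (Localization.Away c))) := by
  haveI : IsAffine P := isAffine_of_isAffineHom π
  let φ : CommRingCat.of L ⟶ Γ(P, ⊤) := Spec.preimage (P.isoSpec.inv ≫ π)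
  have hφ : Spec.map φ = P.isoSpec.inv ≫ π := Spec.map_preimage _
  have hfin : IsFinite (Spec.map φ) := by rw [hφ]; infer_instance
  have hfp : LocallyOfFinitePresentation (Spec.map φ) := by rw [hφ]; infer_instance
  have hsurj : Surjective (Spec.map φ) := by rw [hφ]; infer_instance
  rw [IsFinite.SpecMap_iff] at hfin
  rw [LocallyOfFinitePresentation.SpecMap_iff] at hfp
  algebraize [φ.hom]
  let D := Localization.AtPrime q
  have hs : Function.Surjective (PrimeSpectrum.comap (algebraMap D (D ⊗[L] Γ(P, ⊤)))) := by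
    intro d
    obtain ⟨b, hb⟩ := hsurj.surj (PrimeSpectrum.comap (algebraMap L D) d)
    obtain ⟨w, hw, -⟩ := Scheme.exists_preimage_of_isPullback
      (isPullback_SpecMap_of_isPushout _ _ _ _ (CommRingCat.isPushout_tensorProduct L D Γ(P, ⊤))) d b hb.symm
    exact ⟨w, hw⟩
  obtain ⟨σ⟩ := exists_algHom_of_finite (hL.localization q.primeCompl D) hs
  obtain ⟨c, hc, ⟨τ⟩⟩ := exists_algHom_away q ((σ.restrictScalars L).comp Algebra.TensorProduct.includeRight)
  refine ⟨c, hc, Spec.map (CommRingCat.ofHom τ.toRingHom) ≫ P.isoSpec.inv, ?_⟩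
  rw [Category.assoc, ← hφ, ← Spec.map_comp]
  congr 1
  ext a
  exact τ.commutes a

variable {X S : Scheme.{u}} (f : X ⟶ S)

/-- A point closed in the fibre. -/
theorem exists_closed_in_fibre [LocallyOfFiniteType f] [Surjective f] (s : S) :
    ∃ x : X, f x = s ∧ ∀ x' : X, f x' = f x → x ⤳ x' → x' = x := by
  obtain ⟨x₀, hx₀⟩ := f.surjective s
  haveI : LocallyOfFiniteType (f.fiberToSpecResidueField s) :=
    inferInstanceAs (LocallyOfFiniteType (pullback.snd _ _))
  haveI : JacobsonSpace (f.fiber s) := LocallyOfFiniteType.jacobsonSpace (f.fiberToSpecResidueField s)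
  obtain ⟨a, -, ha⟩ := nonempty_inter_closedPoints (X := ↥(f.fiber s))
    (Z := Set.univ) ⟨(f.fiberHomeo s).symm ⟨x₀, hx₀⟩, trivial⟩ (isClosed_univ.isLocallyClosed)
  have hfa : f (f.fiberι s a) = s := by
    have : f.fiberι s a ∈ Set.range (f.fiberι s) := ⟨a, rfl⟩
    rwa [f.range_fiberι] at this
  refine ⟨f.fiberι s a, hfa, fun x' hx' hs => ?_⟩
  let b : f.fiber s := (f.fiberHomeo s).symm ⟨x', hx'.trans hfa⟩
  have hb : f.fiberι s b = x' := f.fiberι_fiberHomeo_symm _ _
  have : a ⤳ b := by
    rw [← (f.fiberι s).isEmbedding.isInducing.specializes_iff, hb]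
    exact hs
  rw [← hb, this.mem_closed ha rfl]

/-- Sections near every point of the absolute integral closure. -/
theorem exists_section_absClosure [UniversallyOpen f] [Surjective f] [LocallyOfFinitePresentation f]
    (t : AbsClosure.T S) :
    ∃ (V : (AbsClosure.T S).Opens) (r : ↑V ⟶ X), t ∈ V ∧ r ≫ f = V.ι ≫ AbsClosure.π S := by
  obtain ⟨x, hx, hcl⟩ := exists_closed_in_fibre f (AbsClosure.π S t)
  obtain ⟨z, hzx, hfz, -, hd, -⟩ := E4O.exists_isFibreMax_specializes f x
  have hopen : EGA43.IsUnivOpenAt f z := fun Y' g x' _ =>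
    E4O.isOpenAt_of_isOpenMap (pullback.snd f g).isOpenMap x'
  obtain ⟨S', S'', hS', w, π, h, hw, hπf, hπs, hπp, hh, s'', hs'', -, -⟩ :=
    CAlg6.QuasiSec.main f hcl hzx hfz hopen hd.le
  obtain ⟨_, ⟨U, hU, rfl⟩, htU, -⟩ :=
    S.isBasis_affineOpens.exists_subset_of_mem_open (Set.mem_univ (AbsClosure.π S t)) isOpen_univ
  obtain ⟨z₀, hz₀⟩ : t ∈ ((AbsClosure.chart S).f ⟨U, hU⟩).opensRange := by
    rw [← AbsClosure.π_preimage]; exact htU
  have hu : w (π s'') = AbsClosure.π S t := by
    have : s'' ∈ (π ≫ w).base ⁻¹' {f.base x} := by rw [hs'']; rfl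
    exact (show w (π s'') = f x from this).trans hx
  obtain ⟨_, ⟨W, hW, rfl⟩, huW, hWU⟩ :=
    S'.isBasis_affineOpens.exists_subset_of_mem_open (show π s'' ∈ w ⁻¹ᵁ U by
      show w (π s'') ∈ U
      rw [hu]; exact htU) (w ⁻¹ᵁ U).2
  let A := Γ(S, U)
  let C := AbsClosure.integ S U
  let B := Γ(S', W)
  let φ : A →+* C := ((AbsClosure.diagramMap S).app (.op U)).hom
  algebraize [(w.appLE U W hWU).hom, φ]
  have : Algebra.FinitePresentation A B :=
    LocallyOfFinitePresentation.finitePresentation_appLE w hU hW hWU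
  have : Module.Flat A B := Flat.flat_appLE w hU hW hWU
  have : Algebra.Etale A B := RingHom.etale_algebraMap.1
    (HasRingHomProperty.appLE @Etale w inferInstance ⟨U, hU⟩ ⟨W, hW⟩ hWU)
  have : Algebra.QuasiFinite A B := inferInstance
  let q : Ideal C := z₀.asIdeal
  have : q.IsPrime := z₀.isPrime
  have := AbsClosure.isDomain_localization S U q
  obtain ⟨x', hx'⟩ : π s'' ∈ Set.range hW.fromSpec := by rw [hW.range_fromSpec]; exact huW
  have hcomap : PrimeSpectrum.comap (algebraMap A B) x' = PrimeSpectrum.comap (algebraMap A C) z₀ := by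
    apply hU.fromSpec.isOpenEmbedding.injective
    change (Spec.map (w.appLE U W hWU) ≫ hU.fromSpec) x' =
      (Spec.map ((AbsClosure.diagramMap S).app (.op U)) ≫ hU.fromSpec) z₀
    rw [IsAffineOpen.SpecMap_appLE_fromSpec w hU hW hWU, ← AbsClosure.chart_π S ⟨U, hU⟩,
      Scheme.Hom.comp_apply, Scheme.Hom.comp_apply, hx', hu]
    exact congrArg (AbsClosure.π S) hz₀.symm
  obtain ⟨c, hc, ⟨σ⟩⟩ := exists_section_away (A := A) (B := B) (AbsClosure.hasRoots_integ S U) q x' hcomap
  let L := Localization.Away c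
  let v : Spec (.of L) ⟶ S' := Spec.map (CommRingCat.ofHom σ.toRingHom) ≫ hW.fromSpec
  let j₀ : Spec (.of L) ⟶ AbsClosure.T S :=
    Spec.map (CommRingCat.ofHom (algebraMap C L)) ≫ (AbsClosure.chart S).f ⟨U, hU⟩
  have hv : v ≫ w = j₀ ≫ AbsClosure.π S := by
    simp only [v, j₀, Category.assoc, AbsClosure.chart_π]
    rw [← IsAffineOpen.SpecMap_appLE_fromSpec w hU hW hWU, ← Spec.map_comp_assoc, ← Spec.map_comp_assoc]
    congr 2
    ext a
    exact σ.commutes a
  have hcq : Disjoint (Submonoid.powers c : Set C) q := Set.disjoint_left.2 fun b hb hb' => by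
    obtain ⟨k, rfl⟩ := hb
    exact hc (‹q.IsPrime›.mem_of_pow_mem k hb')
  let qL : Ideal L := q.map (algebraMap C L)
  haveI : qL.IsPrime := IsLocalization.isPrime_of_isPrime_disjoint (Submonoid.powers c) L q inferInstance hcq
  have hqc : qL.comap (algebraMap C L) = q :=
    IsLocalization.under_map_of_isPrime_disjoint (Submonoid.powers c) L (I := q) inferInstance hcq
  haveI : IsDomain (Localization.AtPrime qL) := by
    haveI : IsLocalization.AtPrime (Localization.AtPrime qL) q := by
      have := IsLocalization.isLocalization_isLocalization_atPrime_isLocalization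
        (Submonoid.powers c) (S := L) (Localization.AtPrime qL) qL
      convert this using 2
      exact hqc.symm
    exact (IsLocalization.algEquiv q.primeCompl (Localization.AtPrime qL) (Localization.AtPrime q)).injective.isDomain
  obtain ⟨c₂, hc₂, τ, hτ⟩ := exists_section_of_finite_surjective
    ((AbsClosure.hasRoots_integ S U).localization (Submonoid.powers c) L) (pullback.snd π v) qL
  let L₂ := Localization.Away c₂
  let j : Spec (.of L₂) ⟶ AbsClosure.T S := Spec.map (CommRingCat.ofHom (algebraMap L L₂)) ≫ j₀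
  have : IsOpenImmersion (Spec.map (CommRingCat.ofHom (algebraMap C L))) := IsOpenImmersion.of_isLocalization c
  have : IsOpenImmersion (Spec.map (CommRingCat.ofHom (algebraMap L L₂))) := IsOpenImmersion.of_isLocalization c₂
  have : IsOpenImmersion j₀ := inferInstanceAs (IsOpenImmersion (_ ≫ _))
  have : IsOpenImmersion j := inferInstanceAs (IsOpenImmersion (_ ≫ _))
  have hr : (τ ≫ pullback.fst π v ≫ h) ≫ f = j ≫ AbsClosure.π S := by
    rw [Category.assoc, Category.assoc, Category.assoc, hh, pullback.condition_assoc, hv, reassoc_of% hτ]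
  refine ⟨j.opensRange, j.isoOpensRange.inv ≫ τ ≫ pullback.fst π v ≫ h, ?_, ?_⟩
  · obtain ⟨z₂, hz₂⟩ : (⟨qL, inferInstance⟩ : PrimeSpectrum L) ∈ Set.range (PrimeSpectrum.comap (algebraMap L L₂)) := by
      rw [PrimeSpectrum.localization_away_comap_range L₂ c₂]
      exact hc₂
    refine ⟨z₂, ?_⟩
    show (AbsClosure.chart S).f ⟨U, hU⟩ (PrimeSpectrum.comap (algebraMap C L) (PrimeSpectrum.comap (algebraMap L L₂) z₂)) = t
    rw [hz₂]
    exact (congrArg _ (PrimeSpectrum.ext hqc)).trans hz₀
  · rw [Category.assoc, hr, ← Scheme.Hom.isoOpensRange_inv_comp j]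
    simp only [Category.assoc]

end Groth.Agent.Sec62
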